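import Cfsg.Agent.Lib.Fi24Pres.Check.I6
import Cfsg.Agent.Lib.Fi24Pres.Check.I9

/-! A relation on the double cover. -/

set_option autoImplicit false
set_option maxRecDepth 100000
set_option Elab.async false

namespace Cfsg.Agent.Fi24Pres

noncomputable section

theorem br6_9c_0 : allIn (braidAt key2 lift2 (act2 d6) (act2 d9)) 0 8192 = true := by
  decide +kernel

theorem br6_9c_1 : allIn (braidAt key2 lift2 (act2 d6) (act2 d9)) 8192 8192 = true := by
  decide +kernel

theorem br6_9c_2 : allIn (braidAt key2 lift2 (act2 d6) (act2 d9)) 16384 8192 = true := by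
  decide +kernel

theorem br6_9c_3 : allIn (braidAt key2 lift2 (act2 d6) (act2 d9)) 24576 8192 = true := by
  decide +kernel

theorem br6_9c_4 : allIn (braidAt key2 lift2 (act2 d6) (act2 d9)) 32768 8192 = true := by
  decide +kernel

theorem br6_9c_5 : allIn (braidAt key2 lift2 (act2 d6) (act2 d9)) 40960 8192 = true := by
  decide +kernel

theorem br6_9c_6 : allIn (braidAt key2 lift2 (act2 d6) (act2 d9)) 49152 8192 = true := by
  decide +kernel

theorem br6_9c_7 : allIn (braidAt key2 lift2 (act2 d6) (act2 d9)) 57344 8192 = true := by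
  decide +kernel

theorem br6_9c_8 : allIn (braidAt key2 lift2 (act2 d6) (act2 d9)) 65536 8192 = true := by
  decide +kernel

theorem br6_9c_9 : allIn (braidAt key2 lift2 (act2 d6) (act2 d9)) 73728 8192 = true := by
  decide +kernel

theorem br6_9c_10 : allIn (braidAt key2 lift2 (act2 d6) (act2 d9)) 81920 8192 = true := by
  decide +kernel

theorem br6_9c_11 : allIn (braidAt key2 lift2 (act2 d6) (act2 d9)) 90112 8192 = true := by
  decide +kernel

theorem br6_9c_12 : allIn (braidAt key2 lift2 (act2 d6) (act2 d9)) 98304 8192 = true := by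
  decide +kernel

theorem br6_9c_13 : allIn (braidAt key2 lift2 (act2 d6) (act2 d9)) 106496 8192 = true := by
  decide +kernel

theorem br6_9c_14 : allIn (braidAt key2 lift2 (act2 d6) (act2 d9)) 114688 8192 = true := by
  decide +kernel

theorem br6_9c_15 : allIn (braidAt key2 lift2 (act2 d6) (act2 d9)) 122880 8192 = true := by
  decide +kernel

theorem br6_9c_16 : allIn (braidAt key2 lift2 (act2 d6) (act2 d9)) 131072 6560 = true := by
  decide +kernel

theorem br6_9c : ∀ c < 137632, (braidAt key2 lift2 (act2 d6) (act2 d9)) c = true := fun c hc =>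
  (allIn_glue br6_9c_0 (allIn_glue br6_9c_1 (allIn_glue br6_9c_2 (allIn_glue br6_9c_3 (allIn_glue br6_9c_4 (allIn_glue br6_9c_5 (allIn_glue br6_9c_6 (allIn_glue br6_9c_7 (allIn_glue br6_9c_8 (allIn_glue br6_9c_9 (allIn_glue br6_9c_10 (allIn_glue br6_9c_11 (allIn_glue br6_9c_12 (allIn_glue br6_9c_13 (allIn_glue br6_9c_14 (allIn_glue br6_9c_15 (allIn_spec br6_9c_16))))))))))))))))) c (Nat.zero_le c) hc

theorem br6_9 : ∀ x < 2 * 137632, act2 d6 (act2 d9 (act2 d6 x)) = act2 d9 (act2 d6 (act2 d9 x)) :=
  braid2_of_checks (even2_act2 _) (even2_act2 _) inv6 inv9 br6_9c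

end

end Cfsg.Agent.Fi24Pres
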