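import Cfsg.Agent.Lib.Fi24Pres.Check.I2
import Cfsg.Agent.Lib.Fi24Pres.Check.I6

/-! A relation on the double cover. -/

set_option autoImplicit false
set_option maxRecDepth 100000
set_option Elab.async false

namespace Cfsg.Agent.Fi24Pres

noncomputable section

theorem cm2_6c_0 : allIn (commAt key2 lift2 (act2 d2) (act2 d6)) 0 8192 = true := by
  decide +kernel

theorem cm2_6c_1 : allIn (commAt key2 lift2 (act2 d2) (act2 d6)) 8192 8192 = true := by
  decide +kernel

theorem cm2_6c_2 : allIn (commAt key2 lift2 (act2 d2) (act2 d6)) 16384 8192 = true := by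
  decide +kernel

theorem cm2_6c_3 : allIn (commAt key2 lift2 (act2 d2) (act2 d6)) 24576 8192 = true := by
  decide +kernel

theorem cm2_6c_4 : allIn (commAt key2 lift2 (act2 d2) (act2 d6)) 32768 8192 = true := by
  decide +kernel

theorem cm2_6c_5 : allIn (commAt key2 lift2 (act2 d2) (act2 d6)) 40960 8192 = true := by
  decide +kernel

theorem cm2_6c_6 : allIn (commAt key2 lift2 (act2 d2) (act2 d6)) 49152 8192 = true := by
  decide +kernel

theorem cm2_6c_7 : allIn (commAt key2 lift2 (act2 d2) (act2 d6)) 57344 8192 = true := by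
  decide +kernel

theorem cm2_6c_8 : allIn (commAt key2 lift2 (act2 d2) (act2 d6)) 65536 8192 = true := by
  decide +kernel

theorem cm2_6c_9 : allIn (commAt key2 lift2 (act2 d2) (act2 d6)) 73728 8192 = true := by
  decide +kernel

theorem cm2_6c_10 : allIn (commAt key2 lift2 (act2 d2) (act2 d6)) 81920 8192 = true := by
  decide +kernel

theorem cm2_6c_11 : allIn (commAt key2 lift2 (act2 d2) (act2 d6)) 90112 8192 = true := by
  decide +kernel

theorem cm2_6c_12 : allIn (commAt key2 lift2 (act2 d2) (act2 d6)) 98304 8192 = true := by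
  decide +kernel

theorem cm2_6c_13 : allIn (commAt key2 lift2 (act2 d2) (act2 d6)) 106496 8192 = true := by
  decide +kernel

theorem cm2_6c_14 : allIn (commAt key2 lift2 (act2 d2) (act2 d6)) 114688 8192 = true := by
  decide +kernel

theorem cm2_6c_15 : allIn (commAt key2 lift2 (act2 d2) (act2 d6)) 122880 8192 = true := by
  decide +kernel

theorem cm2_6c_16 : allIn (commAt key2 lift2 (act2 d2) (act2 d6)) 131072 6560 = true := by
  decide +kernel

theorem cm2_6c : ∀ c < 137632, (commAt key2 lift2 (act2 d2) (act2 d6)) c = true := fun c hc =>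
  (allIn_glue cm2_6c_0 (allIn_glue cm2_6c_1 (allIn_glue cm2_6c_2 (allIn_glue cm2_6c_3 (allIn_glue cm2_6c_4 (allIn_glue cm2_6c_5 (allIn_glue cm2_6c_6 (allIn_glue cm2_6c_7 (allIn_glue cm2_6c_8 (allIn_glue cm2_6c_9 (allIn_glue cm2_6c_10 (allIn_glue cm2_6c_11 (allIn_glue cm2_6c_12 (allIn_glue cm2_6c_13 (allIn_glue cm2_6c_14 (allIn_glue cm2_6c_15 (allIn_spec cm2_6c_16))))))))))))))))) c (Nat.zero_le c) hc

theorem cm2_6 : ∀ x < 2 * 137632, act2 d2 (act2 d6 x) = act2 d6 (act2 d2 x) :=
  comm2_of_checks (even2_act2 _) (even2_act2 _) inv2 inv6 cm2_6c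

end

end Cfsg.Agent.Fi24Pres
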