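import Cfsg.Agent.Lib.Fi24Pres.Rels2
import Cfsg.Agent.Lib.Fi24Pres.ActH
import Cfsg.Agent.Lib.Fi24Pres.Data.Cov

/-! Every point lies in the orbit of b, ..., j of one of nine named points. -/

set_option autoImplicit false
set_option maxRecDepth 100000
set_option Elab.async false

namespace Cfsg.Agent.Fi24Pres

noncomputable section

/-- The nine named points. -/
def namedPts : List ℕ := [0, 31672, 31674, 31673, 31675, 26626, 23801, 32182, 29292]

/-- A named point, or one step of b, ..., j from a point of smaller depth. -/
def covAt (c : ℕ) : Bool :=
  Bool.rec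
    (Nat.ble 1 (Nat.land (cov.get c) 15) && Nat.ble (Nat.land (cov.get c) 15) 9 &&
      Nat.blt (Nat.shiftRight (cov.get (hAct (Nat.land (cov.get c) 15) c)) 4) (Nat.shiftRight (cov.get c) 4))
    (namedPts.any fun r => Nat.beq r c) (Nat.beq (Nat.shiftRight (cov.get c) 4) 0)

theorem cov_0 : allIn covAt 0 8192 = true := by
  decide +kernel

theorem cov_1 : allIn covAt 8192 8192 = true := by
  decide +kernel

theorem cov_2 : allIn covAt 16384 8192 = true := by
  decide +kernel

theorem cov_3 : allIn covAt 24576 8192 = true := by
  decide +kernel

theorem cov_4 : allIn covAt 32768 8192 = true := by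
  decide +kernel

theorem cov_5 : allIn covAt 40960 8192 = true := by
  decide +kernel

theorem cov_6 : allIn covAt 49152 8192 = true := by
  decide +kernel

theorem cov_7 : allIn covAt 57344 8192 = true := by
  decide +kernel

theorem cov_8 : allIn covAt 65536 8192 = true := by
  decide +kernel

theorem cov_9 : allIn covAt 73728 8192 = true := by
  decide +kernel

theorem cov_10 : allIn covAt 81920 8192 = true := by
  decide +kernel

theorem cov_11 : allIn covAt 90112 8192 = true := by
  decide +kernel

theorem cov_12 : allIn covAt 98304 8192 = true := by
  decide +kernel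

theorem cov_13 : allIn covAt 106496 8192 = true := by
  decide +kernel

theorem cov_14 : allIn covAt 114688 8192 = true := by
  decide +kernel

theorem cov_15 : allIn covAt 122880 8192 = true := by
  decide +kernel

theorem cov_16 : allIn covAt 131072 8192 = true := by
  decide +kernel

theorem cov_17 : allIn covAt 139264 8192 = true := by
  decide +kernel

theorem cov_18 : allIn covAt 147456 8192 = true := by
  decide +kernel

theorem cov_19 : allIn covAt 155648 8192 = true := by
  decide +kernel

theorem cov_20 : allIn covAt 163840 8192 = true := by
  decide +kernel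

theorem cov_21 : allIn covAt 172032 8192 = true := by
  decide +kernel

theorem cov_22 : allIn covAt 180224 8192 = true := by
  decide +kernel

theorem cov_23 : allIn covAt 188416 8192 = true := by
  decide +kernel

theorem cov_24 : allIn covAt 196608 8192 = true := by
  decide +kernel

theorem cov_25 : allIn covAt 204800 8192 = true := by
  decide +kernel

theorem cov_26 : allIn covAt 212992 8192 = true := by
  decide +kernel

theorem cov_27 : allIn covAt 221184 8192 = true := by
  decide +kernel

theorem cov_28 : allIn covAt 229376 8192 = true := by
  decide +kernel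

theorem cov_29 : allIn covAt 237568 8192 = true := by
  decide +kernel

theorem cov_30 : allIn covAt 245760 8192 = true := by
  decide +kernel

theorem cov_31 : allIn covAt 253952 8192 = true := by
  decide +kernel

theorem cov_32 : allIn covAt 262144 8192 = true := by
  decide +kernel

theorem cov_33 : allIn covAt 270336 8192 = true := by
  decide +kernel

theorem cov_34 : allIn covAt 278528 8192 = true := by
  decide +kernel

theorem cov_35 : allIn covAt 286720 8192 = true := by
  decide +kernel

theorem cov_36 : allIn covAt 294912 8192 = true := by
  decide +kernel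

theorem cov_37 : allIn covAt 303104 3832 = true := by
  decide +kernel

theorem cov_ok : ∀ c < 306936, covAt c = true := fun c hc =>
  (allIn_glue cov_0 (allIn_glue cov_1 (allIn_glue cov_2 (allIn_glue cov_3 (allIn_glue cov_4 (allIn_glue cov_5 (allIn_glue cov_6 (allIn_glue cov_7 (allIn_glue cov_8 (allIn_glue cov_9 (allIn_glue cov_10 (allIn_glue cov_11 (allIn_glue cov_12 (allIn_glue cov_13 (allIn_glue cov_14 (allIn_glue cov_15 (allIn_glue cov_16 (allIn_glue cov_17 (allIn_glue cov_18 (allIn_glue cov_19 (allIn_glue cov_20 (allIn_glue cov_21 (allIn_glue cov_22 (allIn_glue cov_23 (allIn_glue cov_24 (allIn_glue cov_25 (allIn_glue cov_26 (allIn_glue cov_27 (allIn_glue cov_28 (allIn_glue cov_29 (allIn_glue cov_30 (allIn_glue cov_31 (allIn_glue cov_32 (allIn_glue cov_33 (allIn_glue cov_34 (allIn_glue cov_35 (allIn_glue cov_36 (allIn_spec cov_37)))))))))))))))))))))))))))))))))))))) c (Nat.zero_le c) hc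

end

end Cfsg.Agent.Fi24Pres
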