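import Cfsg.Agent.Lib.Fi24Pres.ActLemmas
import Cfsg.Agent.Lib.Fi24Pres.Data.Dk

/-! The braid relation of k and l. -/

set_option autoImplicit false
set_option maxRecDepth 100000
set_option Elab.async false

namespace Cfsg.Agent.Fi24Pres

noncomputable section

theorem kbrl_0 : allIn (braidAt (fun x => x) (fun c => c) (fun c => T20.get dk c) actL) 0 8192 = true := by
  decide +kernel

theorem kbrl_1 : allIn (braidAt (fun x => x) (fun c => c) (fun c => T20.get dk c) actL) 8192 8192 = true := by
  decide +kernel

theorem kbrl_2 : allIn (braidAt (fun x => x) (fun c => c) (fun c => T20.get dk c) actL) 16384 8192 = true := by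
  decide +kernel

theorem kbrl_3 : allIn (braidAt (fun x => x) (fun c => c) (fun c => T20.get dk c) actL) 24576 8192 = true := by
  decide +kernel

theorem kbrl_4 : allIn (braidAt (fun x => x) (fun c => c) (fun c => T20.get dk c) actL) 32768 8192 = true := by
  decide +kernel

theorem kbrl_5 : allIn (braidAt (fun x => x) (fun c => c) (fun c => T20.get dk c) actL) 40960 8192 = true := by
  decide +kernel

theorem kbrl_6 : allIn (braidAt (fun x => x) (fun c => c) (fun c => T20.get dk c) actL) 49152 8192 = true := by
  decide +kernel

theorem kbrl_7 : allIn (braidAt (fun x => x) (fun c => c) (fun c => T20.get dk c) actL) 57344 8192 = true := by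
  decide +kernel

theorem kbrl_8 : allIn (braidAt (fun x => x) (fun c => c) (fun c => T20.get dk c) actL) 65536 8192 = true := by
  decide +kernel

theorem kbrl_9 : allIn (braidAt (fun x => x) (fun c => c) (fun c => T20.get dk c) actL) 73728 8192 = true := by
  decide +kernel

theorem kbrl_10 : allIn (braidAt (fun x => x) (fun c => c) (fun c => T20.get dk c) actL) 81920 8192 = true := by
  decide +kernel

theorem kbrl_11 : allIn (braidAt (fun x => x) (fun c => c) (fun c => T20.get dk c) actL) 90112 8192 = true := by
  decide +kernel

theorem kbrl_12 : allIn (braidAt (fun x => x) (fun c => c) (fun c => T20.get dk c) actL) 98304 8192 = true := by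
  decide +kernel

theorem kbrl_13 : allIn (braidAt (fun x => x) (fun c => c) (fun c => T20.get dk c) actL) 106496 8192 = true := by
  decide +kernel

theorem kbrl_14 : allIn (braidAt (fun x => x) (fun c => c) (fun c => T20.get dk c) actL) 114688 8192 = true := by
  decide +kernel

theorem kbrl_15 : allIn (braidAt (fun x => x) (fun c => c) (fun c => T20.get dk c) actL) 122880 8192 = true := by
  decide +kernel

theorem kbrl_16 : allIn (braidAt (fun x => x) (fun c => c) (fun c => T20.get dk c) actL) 131072 8192 = true := by
  decide +kernel

theorem kbrl_17 : allIn (braidAt (fun x => x) (fun c => c) (fun c => T20.get dk c) actL) 139264 8192 = true := by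
  decide +kernel

theorem kbrl_18 : allIn (braidAt (fun x => x) (fun c => c) (fun c => T20.get dk c) actL) 147456 8192 = true := by
  decide +kernel

theorem kbrl_19 : allIn (braidAt (fun x => x) (fun c => c) (fun c => T20.get dk c) actL) 155648 8192 = true := by
  decide +kernel

theorem kbrl_20 : allIn (braidAt (fun x => x) (fun c => c) (fun c => T20.get dk c) actL) 163840 8192 = true := by
  decide +kernel

theorem kbrl_21 : allIn (braidAt (fun x => x) (fun c => c) (fun c => T20.get dk c) actL) 172032 8192 = true := by
  decide +kernel

theorem kbrl_22 : allIn (braidAt (fun x => x) (fun c => c) (fun c => T20.get dk c) actL) 180224 8192 = true := by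
  decide +kernel

theorem kbrl_23 : allIn (braidAt (fun x => x) (fun c => c) (fun c => T20.get dk c) actL) 188416 8192 = true := by
  decide +kernel

theorem kbrl_24 : allIn (braidAt (fun x => x) (fun c => c) (fun c => T20.get dk c) actL) 196608 8192 = true := by
  decide +kernel

theorem kbrl_25 : allIn (braidAt (fun x => x) (fun c => c) (fun c => T20.get dk c) actL) 204800 8192 = true := by
  decide +kernel

theorem kbrl_26 : allIn (braidAt (fun x => x) (fun c => c) (fun c => T20.get dk c) actL) 212992 8192 = true := by
  decide +kernel

theorem kbrl_27 : allIn (braidAt (fun x => x) (fun c => c) (fun c => T20.get dk c) actL) 221184 8192 = true := by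
  decide +kernel

theorem kbrl_28 : allIn (braidAt (fun x => x) (fun c => c) (fun c => T20.get dk c) actL) 229376 8192 = true := by
  decide +kernel

theorem kbrl_29 : allIn (braidAt (fun x => x) (fun c => c) (fun c => T20.get dk c) actL) 237568 8192 = true := by
  decide +kernel

theorem kbrl_30 : allIn (braidAt (fun x => x) (fun c => c) (fun c => T20.get dk c) actL) 245760 8192 = true := by
  decide +kernel

theorem kbrl_31 : allIn (braidAt (fun x => x) (fun c => c) (fun c => T20.get dk c) actL) 253952 8192 = true := by
  decide +kernel

theorem kbrl_32 : allIn (braidAt (fun x => x) (fun c => c) (fun c => T20.get dk c) actL) 262144 8192 = true := by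
  decide +kernel

theorem kbrl_33 : allIn (braidAt (fun x => x) (fun c => c) (fun c => T20.get dk c) actL) 270336 8192 = true := by
  decide +kernel

theorem kbrl_34 : allIn (braidAt (fun x => x) (fun c => c) (fun c => T20.get dk c) actL) 278528 8192 = true := by
  decide +kernel

theorem kbrl_35 : allIn (braidAt (fun x => x) (fun c => c) (fun c => T20.get dk c) actL) 286720 8192 = true := by
  decide +kernel

theorem kbrl_36 : allIn (braidAt (fun x => x) (fun c => c) (fun c => T20.get dk c) actL) 294912 8192 = true := by
  decide +kernel

theorem kbrl_37 : allIn (braidAt (fun x => x) (fun c => c) (fun c => T20.get dk c) actL) 303104 3832 = true := by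
  decide +kernel

theorem kbrl : ∀ c < 306936, (braidAt (fun x => x) (fun c => c) (fun c => T20.get dk c) actL) c = true := fun c hc =>
  (allIn_glue kbrl_0 (allIn_glue kbrl_1 (allIn_glue kbrl_2 (allIn_glue kbrl_3 (allIn_glue kbrl_4 (allIn_glue kbrl_5 (allIn_glue kbrl_6 (allIn_glue kbrl_7 (allIn_glue kbrl_8 (allIn_glue kbrl_9 (allIn_glue kbrl_10 (allIn_glue kbrl_11 (allIn_glue kbrl_12 (allIn_glue kbrl_13 (allIn_glue kbrl_14 (allIn_glue kbrl_15 (allIn_glue kbrl_16 (allIn_glue kbrl_17 (allIn_glue kbrl_18 (allIn_glue kbrl_19 (allIn_glue kbrl_20 (allIn_glue kbrl_21 (allIn_glue kbrl_22 (allIn_glue kbrl_23 (allIn_glue kbrl_24 (allIn_glue kbrl_25 (allIn_glue kbrl_26 (allIn_glue kbrl_27 (allIn_glue kbrl_28 (allIn_glue kbrl_29 (allIn_glue kbrl_30 (allIn_glue kbrl_31 (allIn_glue kbrl_32 (allIn_glue kbrl_33 (allIn_glue kbrl_34 (allIn_glue kbrl_35 (allIn_glue kbrl_36 (allIn_spec kbrl_37)))))))))))))))))))))))))))))))))))))) c (Nat.zero_le c) hc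

end

end Cfsg.Agent.Fi24Pres
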