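import Cfsg.Agent.Lib.Fi24Pres.ActLemmas
import Cfsg.Agent.Lib.Fi24Pres.Data.Dk
import Cfsg.Agent.Lib.Fi24Pres.Data.D2

/-! k commutes with a generator. -/

set_option autoImplicit false
set_option maxRecDepth 100000
set_option Elab.async false

namespace Cfsg.Agent.Fi24Pres

noncomputable section

theorem kcm2_0 : allIn (commAt (fun x => x) (fun c => c) (fun c => T20.get dk c) (actH d2 2)) 0 8192 = true := by
  decide +kernel

theorem kcm2_1 : allIn (commAt (fun x => x) (fun c => c) (fun c => T20.get dk c) (actH d2 2)) 8192 8192 = true := by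
  decide +kernel

theorem kcm2_2 : allIn (commAt (fun x => x) (fun c => c) (fun c => T20.get dk c) (actH d2 2)) 16384 8192 = true := by
  decide +kernel

theorem kcm2_3 : allIn (commAt (fun x => x) (fun c => c) (fun c => T20.get dk c) (actH d2 2)) 24576 8192 = true := by
  decide +kernel

theorem kcm2_4 : allIn (commAt (fun x => x) (fun c => c) (fun c => T20.get dk c) (actH d2 2)) 32768 8192 = true := by
  decide +kernel

theorem kcm2_5 : allIn (commAt (fun x => x) (fun c => c) (fun c => T20.get dk c) (actH d2 2)) 40960 8192 = true := by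
  decide +kernel

theorem kcm2_6 : allIn (commAt (fun x => x) (fun c => c) (fun c => T20.get dk c) (actH d2 2)) 49152 8192 = true := by
  decide +kernel

theorem kcm2_7 : allIn (commAt (fun x => x) (fun c => c) (fun c => T20.get dk c) (actH d2 2)) 57344 8192 = true := by
  decide +kernel

theorem kcm2_8 : allIn (commAt (fun x => x) (fun c => c) (fun c => T20.get dk c) (actH d2 2)) 65536 8192 = true := by
  decide +kernel

theorem kcm2_9 : allIn (commAt (fun x => x) (fun c => c) (fun c => T20.get dk c) (actH d2 2)) 73728 8192 = true := by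
  decide +kernel

theorem kcm2_10 : allIn (commAt (fun x => x) (fun c => c) (fun c => T20.get dk c) (actH d2 2)) 81920 8192 = true := by
  decide +kernel

theorem kcm2_11 : allIn (commAt (fun x => x) (fun c => c) (fun c => T20.get dk c) (actH d2 2)) 90112 8192 = true := by
  decide +kernel

theorem kcm2_12 : allIn (commAt (fun x => x) (fun c => c) (fun c => T20.get dk c) (actH d2 2)) 98304 8192 = true := by
  decide +kernel

theorem kcm2_13 : allIn (commAt (fun x => x) (fun c => c) (fun c => T20.get dk c) (actH d2 2)) 106496 8192 = true := by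
  decide +kernel

theorem kcm2_14 : allIn (commAt (fun x => x) (fun c => c) (fun c => T20.get dk c) (actH d2 2)) 114688 8192 = true := by
  decide +kernel

theorem kcm2_15 : allIn (commAt (fun x => x) (fun c => c) (fun c => T20.get dk c) (actH d2 2)) 122880 8192 = true := by
  decide +kernel

theorem kcm2_16 : allIn (commAt (fun x => x) (fun c => c) (fun c => T20.get dk c) (actH d2 2)) 131072 8192 = true := by
  decide +kernel

theorem kcm2_17 : allIn (commAt (fun x => x) (fun c => c) (fun c => T20.get dk c) (actH d2 2)) 139264 8192 = true := by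
  decide +kernel

theorem kcm2_18 : allIn (commAt (fun x => x) (fun c => c) (fun c => T20.get dk c) (actH d2 2)) 147456 8192 = true := by
  decide +kernel

theorem kcm2_19 : allIn (commAt (fun x => x) (fun c => c) (fun c => T20.get dk c) (actH d2 2)) 155648 8192 = true := by
  decide +kernel

theorem kcm2_20 : allIn (commAt (fun x => x) (fun c => c) (fun c => T20.get dk c) (actH d2 2)) 163840 8192 = true := by
  decide +kernel

theorem kcm2_21 : allIn (commAt (fun x => x) (fun c => c) (fun c => T20.get dk c) (actH d2 2)) 172032 8192 = true := by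
  decide +kernel

theorem kcm2_22 : allIn (commAt (fun x => x) (fun c => c) (fun c => T20.get dk c) (actH d2 2)) 180224 8192 = true := by
  decide +kernel

theorem kcm2_23 : allIn (commAt (fun x => x) (fun c => c) (fun c => T20.get dk c) (actH d2 2)) 188416 8192 = true := by
  decide +kernel

theorem kcm2_24 : allIn (commAt (fun x => x) (fun c => c) (fun c => T20.get dk c) (actH d2 2)) 196608 8192 = true := by
  decide +kernel

theorem kcm2_25 : allIn (commAt (fun x => x) (fun c => c) (fun c => T20.get dk c) (actH d2 2)) 204800 8192 = true := by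
  decide +kernel

theorem kcm2_26 : allIn (commAt (fun x => x) (fun c => c) (fun c => T20.get dk c) (actH d2 2)) 212992 8192 = true := by
  decide +kernel

theorem kcm2_27 : allIn (commAt (fun x => x) (fun c => c) (fun c => T20.get dk c) (actH d2 2)) 221184 8192 = true := by
  decide +kernel

theorem kcm2_28 : allIn (commAt (fun x => x) (fun c => c) (fun c => T20.get dk c) (actH d2 2)) 229376 8192 = true := by
  decide +kernel

theorem kcm2_29 : allIn (commAt (fun x => x) (fun c => c) (fun c => T20.get dk c) (actH d2 2)) 237568 8192 = true := by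
  decide +kernel

theorem kcm2_30 : allIn (commAt (fun x => x) (fun c => c) (fun c => T20.get dk c) (actH d2 2)) 245760 8192 = true := by
  decide +kernel

theorem kcm2_31 : allIn (commAt (fun x => x) (fun c => c) (fun c => T20.get dk c) (actH d2 2)) 253952 8192 = true := by
  decide +kernel

theorem kcm2_32 : allIn (commAt (fun x => x) (fun c => c) (fun c => T20.get dk c) (actH d2 2)) 262144 8192 = true := by
  decide +kernel

theorem kcm2_33 : allIn (commAt (fun x => x) (fun c => c) (fun c => T20.get dk c) (actH d2 2)) 270336 8192 = true := by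
  decide +kernel

theorem kcm2_34 : allIn (commAt (fun x => x) (fun c => c) (fun c => T20.get dk c) (actH d2 2)) 278528 8192 = true := by
  decide +kernel

theorem kcm2_35 : allIn (commAt (fun x => x) (fun c => c) (fun c => T20.get dk c) (actH d2 2)) 286720 8192 = true := by
  decide +kernel

theorem kcm2_36 : allIn (commAt (fun x => x) (fun c => c) (fun c => T20.get dk c) (actH d2 2)) 294912 8192 = true := by
  decide +kernel

theorem kcm2_37 : allIn (commAt (fun x => x) (fun c => c) (fun c => T20.get dk c) (actH d2 2)) 303104 3832 = true := by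
  decide +kernel

theorem kcm2 : ∀ c < 306936, (commAt (fun x => x) (fun c => c) (fun c => T20.get dk c) (actH d2 2)) c = true := fun c hc =>
  (allIn_glue kcm2_0 (allIn_glue kcm2_1 (allIn_glue kcm2_2 (allIn_glue kcm2_3 (allIn_glue kcm2_4 (allIn_glue kcm2_5 (allIn_glue kcm2_6 (allIn_glue kcm2_7 (allIn_glue kcm2_8 (allIn_glue kcm2_9 (allIn_glue kcm2_10 (allIn_glue kcm2_11 (allIn_glue kcm2_12 (allIn_glue kcm2_13 (allIn_glue kcm2_14 (allIn_glue kcm2_15 (allIn_glue kcm2_16 (allIn_glue kcm2_17 (allIn_glue kcm2_18 (allIn_glue kcm2_19 (allIn_glue kcm2_20 (allIn_glue kcm2_21 (allIn_glue kcm2_22 (allIn_glue kcm2_23 (allIn_glue kcm2_24 (allIn_glue kcm2_25 (allIn_glue kcm2_26 (allIn_glue kcm2_27 (allIn_glue kcm2_28 (allIn_glue kcm2_29 (allIn_glue kcm2_30 (allIn_glue kcm2_31 (allIn_glue kcm2_32 (allIn_glue kcm2_33 (allIn_glue kcm2_34 (allIn_glue kcm2_35 (allIn_glue kcm2_36 (allIn_spec kcm2_37)))))))))))))))))))))))))))))))))))))) c (Nat.zero_le c) hc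

end

end Cfsg.Agent.Fi24Pres
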