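import Cfsg.Agent.Lib.Fi24Pres.ActLemmas
import Cfsg.Agent.Lib.Fi24Pres.Data.Dk
import Cfsg.Agent.Lib.Fi24Pres.Data.D4

/-! k commutes with a generator. -/

set_option autoImplicit false
set_option maxRecDepth 100000
set_option Elab.async false

namespace Cfsg.Agent.Fi24Pres

noncomputable section

theorem kcm4_0 : allIn (commAt (fun x => x) (fun c => c) (fun c => T20.get dk c) (actH d4 4)) 0 8192 = true := by
  decide +kernel

theorem kcm4_1 : allIn (commAt (fun x => x) (fun c => c) (fun c => T20.get dk c) (actH d4 4)) 8192 8192 = true := by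
  decide +kernel

theorem kcm4_2 : allIn (commAt (fun x => x) (fun c => c) (fun c => T20.get dk c) (actH d4 4)) 16384 8192 = true := by
  decide +kernel

theorem kcm4_3 : allIn (commAt (fun x => x) (fun c => c) (fun c => T20.get dk c) (actH d4 4)) 24576 8192 = true := by
  decide +kernel

theorem kcm4_4 : allIn (commAt (fun x => x) (fun c => c) (fun c => T20.get dk c) (actH d4 4)) 32768 8192 = true := by
  decide +kernel

theorem kcm4_5 : allIn (commAt (fun x => x) (fun c => c) (fun c => T20.get dk c) (actH d4 4)) 40960 8192 = true := by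
  decide +kernel

theorem kcm4_6 : allIn (commAt (fun x => x) (fun c => c) (fun c => T20.get dk c) (actH d4 4)) 49152 8192 = true := by
  decide +kernel

theorem kcm4_7 : allIn (commAt (fun x => x) (fun c => c) (fun c => T20.get dk c) (actH d4 4)) 57344 8192 = true := by
  decide +kernel

theorem kcm4_8 : allIn (commAt (fun x => x) (fun c => c) (fun c => T20.get dk c) (actH d4 4)) 65536 8192 = true := by
  decide +kernel

theorem kcm4_9 : allIn (commAt (fun x => x) (fun c => c) (fun c => T20.get dk c) (actH d4 4)) 73728 8192 = true := by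
  decide +kernel

theorem kcm4_10 : allIn (commAt (fun x => x) (fun c => c) (fun c => T20.get dk c) (actH d4 4)) 81920 8192 = true := by
  decide +kernel

theorem kcm4_11 : allIn (commAt (fun x => x) (fun c => c) (fun c => T20.get dk c) (actH d4 4)) 90112 8192 = true := by
  decide +kernel

theorem kcm4_12 : allIn (commAt (fun x => x) (fun c => c) (fun c => T20.get dk c) (actH d4 4)) 98304 8192 = true := by
  decide +kernel

theorem kcm4_13 : allIn (commAt (fun x => x) (fun c => c) (fun c => T20.get dk c) (actH d4 4)) 106496 8192 = true := by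
  decide +kernel

theorem kcm4_14 : allIn (commAt (fun x => x) (fun c => c) (fun c => T20.get dk c) (actH d4 4)) 114688 8192 = true := by
  decide +kernel

theorem kcm4_15 : allIn (commAt (fun x => x) (fun c => c) (fun c => T20.get dk c) (actH d4 4)) 122880 8192 = true := by
  decide +kernel

theorem kcm4_16 : allIn (commAt (fun x => x) (fun c => c) (fun c => T20.get dk c) (actH d4 4)) 131072 8192 = true := by
  decide +kernel

theorem kcm4_17 : allIn (commAt (fun x => x) (fun c => c) (fun c => T20.get dk c) (actH d4 4)) 139264 8192 = true := by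
  decide +kernel

theorem kcm4_18 : allIn (commAt (fun x => x) (fun c => c) (fun c => T20.get dk c) (actH d4 4)) 147456 8192 = true := by
  decide +kernel

theorem kcm4_19 : allIn (commAt (fun x => x) (fun c => c) (fun c => T20.get dk c) (actH d4 4)) 155648 8192 = true := by
  decide +kernel

theorem kcm4_20 : allIn (commAt (fun x => x) (fun c => c) (fun c => T20.get dk c) (actH d4 4)) 163840 8192 = true := by
  decide +kernel

theorem kcm4_21 : allIn (commAt (fun x => x) (fun c => c) (fun c => T20.get dk c) (actH d4 4)) 172032 8192 = true := by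
  decide +kernel

theorem kcm4_22 : allIn (commAt (fun x => x) (fun c => c) (fun c => T20.get dk c) (actH d4 4)) 180224 8192 = true := by
  decide +kernel

theorem kcm4_23 : allIn (commAt (fun x => x) (fun c => c) (fun c => T20.get dk c) (actH d4 4)) 188416 8192 = true := by
  decide +kernel

theorem kcm4_24 : allIn (commAt (fun x => x) (fun c => c) (fun c => T20.get dk c) (actH d4 4)) 196608 8192 = true := by
  decide +kernel

theorem kcm4_25 : allIn (commAt (fun x => x) (fun c => c) (fun c => T20.get dk c) (actH d4 4)) 204800 8192 = true := by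
  decide +kernel

theorem kcm4_26 : allIn (commAt (fun x => x) (fun c => c) (fun c => T20.get dk c) (actH d4 4)) 212992 8192 = true := by
  decide +kernel

theorem kcm4_27 : allIn (commAt (fun x => x) (fun c => c) (fun c => T20.get dk c) (actH d4 4)) 221184 8192 = true := by
  decide +kernel

theorem kcm4_28 : allIn (commAt (fun x => x) (fun c => c) (fun c => T20.get dk c) (actH d4 4)) 229376 8192 = true := by
  decide +kernel

theorem kcm4_29 : allIn (commAt (fun x => x) (fun c => c) (fun c => T20.get dk c) (actH d4 4)) 237568 8192 = true := by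
  decide +kernel

theorem kcm4_30 : allIn (commAt (fun x => x) (fun c => c) (fun c => T20.get dk c) (actH d4 4)) 245760 8192 = true := by
  decide +kernel

theorem kcm4_31 : allIn (commAt (fun x => x) (fun c => c) (fun c => T20.get dk c) (actH d4 4)) 253952 8192 = true := by
  decide +kernel

theorem kcm4_32 : allIn (commAt (fun x => x) (fun c => c) (fun c => T20.get dk c) (actH d4 4)) 262144 8192 = true := by
  decide +kernel

theorem kcm4_33 : allIn (commAt (fun x => x) (fun c => c) (fun c => T20.get dk c) (actH d4 4)) 270336 8192 = true := by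
  decide +kernel

theorem kcm4_34 : allIn (commAt (fun x => x) (fun c => c) (fun c => T20.get dk c) (actH d4 4)) 278528 8192 = true := by
  decide +kernel

theorem kcm4_35 : allIn (commAt (fun x => x) (fun c => c) (fun c => T20.get dk c) (actH d4 4)) 286720 8192 = true := by
  decide +kernel

theorem kcm4_36 : allIn (commAt (fun x => x) (fun c => c) (fun c => T20.get dk c) (actH d4 4)) 294912 8192 = true := by
  decide +kernel

theorem kcm4_37 : allIn (commAt (fun x => x) (fun c => c) (fun c => T20.get dk c) (actH d4 4)) 303104 3832 = true := by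
  decide +kernel

theorem kcm4 : ∀ c < 306936, (commAt (fun x => x) (fun c => c) (fun c => T20.get dk c) (actH d4 4)) c = true := fun c hc =>
  (allIn_glue kcm4_0 (allIn_glue kcm4_1 (allIn_glue kcm4_2 (allIn_glue kcm4_3 (allIn_glue kcm4_4 (allIn_glue kcm4_5 (allIn_glue kcm4_6 (allIn_glue kcm4_7 (allIn_glue kcm4_8 (allIn_glue kcm4_9 (allIn_glue kcm4_10 (allIn_glue kcm4_11 (allIn_glue kcm4_12 (allIn_glue kcm4_13 (allIn_glue kcm4_14 (allIn_glue kcm4_15 (allIn_glue kcm4_16 (allIn_glue kcm4_17 (allIn_glue kcm4_18 (allIn_glue kcm4_19 (allIn_glue kcm4_20 (allIn_glue kcm4_21 (allIn_glue kcm4_22 (allIn_glue kcm4_23 (allIn_glue kcm4_24 (allIn_glue kcm4_25 (allIn_glue kcm4_26 (allIn_glue kcm4_27 (allIn_glue kcm4_28 (allIn_glue kcm4_29 (allIn_glue kcm4_30 (allIn_glue kcm4_31 (allIn_glue kcm4_32 (allIn_glue kcm4_33 (allIn_glue kcm4_34 (allIn_glue kcm4_35 (allIn_glue kcm4_36 (allIn_spec kcm4_37)))))))))))))))))))))))))))))))))))))) c (Nat.zero_le c) hc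

end

end Cfsg.Agent.Fi24Pres
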