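import Cfsg.Agent.Lib.Fi24Pres.ActLemmas
import Cfsg.Agent.Lib.Fi24Pres.Data.Dk
import Cfsg.Agent.Lib.Fi24Pres.Data.D8

/-! k commutes with a generator. -/

set_option autoImplicit false
set_option maxRecDepth 100000
set_option Elab.async false

namespace Cfsg.Agent.Fi24Pres

noncomputable section

theorem kcm8_0 : allIn (commAt (fun x => x) (fun c => c) (fun c => T20.get dk c) (actH d8 8)) 0 8192 = true := by
  decide +kernel

theorem kcm8_1 : allIn (commAt (fun x => x) (fun c => c) (fun c => T20.get dk c) (actH d8 8)) 8192 8192 = true := by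
  decide +kernel

theorem kcm8_2 : allIn (commAt (fun x => x) (fun c => c) (fun c => T20.get dk c) (actH d8 8)) 16384 8192 = true := by
  decide +kernel

theorem kcm8_3 : allIn (commAt (fun x => x) (fun c => c) (fun c => T20.get dk c) (actH d8 8)) 24576 8192 = true := by
  decide +kernel

theorem kcm8_4 : allIn (commAt (fun x => x) (fun c => c) (fun c => T20.get dk c) (actH d8 8)) 32768 8192 = true := by
  decide +kernel

theorem kcm8_5 : allIn (commAt (fun x => x) (fun c => c) (fun c => T20.get dk c) (actH d8 8)) 40960 8192 = true := by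
  decide +kernel

theorem kcm8_6 : allIn (commAt (fun x => x) (fun c => c) (fun c => T20.get dk c) (actH d8 8)) 49152 8192 = true := by
  decide +kernel

theorem kcm8_7 : allIn (commAt (fun x => x) (fun c => c) (fun c => T20.get dk c) (actH d8 8)) 57344 8192 = true := by
  decide +kernel

theorem kcm8_8 : allIn (commAt (fun x => x) (fun c => c) (fun c => T20.get dk c) (actH d8 8)) 65536 8192 = true := by
  decide +kernel

theorem kcm8_9 : allIn (commAt (fun x => x) (fun c => c) (fun c => T20.get dk c) (actH d8 8)) 73728 8192 = true := by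
  decide +kernel

theorem kcm8_10 : allIn (commAt (fun x => x) (fun c => c) (fun c => T20.get dk c) (actH d8 8)) 81920 8192 = true := by
  decide +kernel

theorem kcm8_11 : allIn (commAt (fun x => x) (fun c => c) (fun c => T20.get dk c) (actH d8 8)) 90112 8192 = true := by
  decide +kernel

theorem kcm8_12 : allIn (commAt (fun x => x) (fun c => c) (fun c => T20.get dk c) (actH d8 8)) 98304 8192 = true := by
  decide +kernel

theorem kcm8_13 : allIn (commAt (fun x => x) (fun c => c) (fun c => T20.get dk c) (actH d8 8)) 106496 8192 = true := by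
  decide +kernel

theorem kcm8_14 : allIn (commAt (fun x => x) (fun c => c) (fun c => T20.get dk c) (actH d8 8)) 114688 8192 = true := by
  decide +kernel

theorem kcm8_15 : allIn (commAt (fun x => x) (fun c => c) (fun c => T20.get dk c) (actH d8 8)) 122880 8192 = true := by
  decide +kernel

theorem kcm8_16 : allIn (commAt (fun x => x) (fun c => c) (fun c => T20.get dk c) (actH d8 8)) 131072 8192 = true := by
  decide +kernel

theorem kcm8_17 : allIn (commAt (fun x => x) (fun c => c) (fun c => T20.get dk c) (actH d8 8)) 139264 8192 = true := by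
  decide +kernel

theorem kcm8_18 : allIn (commAt (fun x => x) (fun c => c) (fun c => T20.get dk c) (actH d8 8)) 147456 8192 = true := by
  decide +kernel

theorem kcm8_19 : allIn (commAt (fun x => x) (fun c => c) (fun c => T20.get dk c) (actH d8 8)) 155648 8192 = true := by
  decide +kernel

theorem kcm8_20 : allIn (commAt (fun x => x) (fun c => c) (fun c => T20.get dk c) (actH d8 8)) 163840 8192 = true := by
  decide +kernel

theorem kcm8_21 : allIn (commAt (fun x => x) (fun c => c) (fun c => T20.get dk c) (actH d8 8)) 172032 8192 = true := by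
  decide +kernel

theorem kcm8_22 : allIn (commAt (fun x => x) (fun c => c) (fun c => T20.get dk c) (actH d8 8)) 180224 8192 = true := by
  decide +kernel

theorem kcm8_23 : allIn (commAt (fun x => x) (fun c => c) (fun c => T20.get dk c) (actH d8 8)) 188416 8192 = true := by
  decide +kernel

theorem kcm8_24 : allIn (commAt (fun x => x) (fun c => c) (fun c => T20.get dk c) (actH d8 8)) 196608 8192 = true := by
  decide +kernel

theorem kcm8_25 : allIn (commAt (fun x => x) (fun c => c) (fun c => T20.get dk c) (actH d8 8)) 204800 8192 = true := by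
  decide +kernel

theorem kcm8_26 : allIn (commAt (fun x => x) (fun c => c) (fun c => T20.get dk c) (actH d8 8)) 212992 8192 = true := by
  decide +kernel

theorem kcm8_27 : allIn (commAt (fun x => x) (fun c => c) (fun c => T20.get dk c) (actH d8 8)) 221184 8192 = true := by
  decide +kernel

theorem kcm8_28 : allIn (commAt (fun x => x) (fun c => c) (fun c => T20.get dk c) (actH d8 8)) 229376 8192 = true := by
  decide +kernel

theorem kcm8_29 : allIn (commAt (fun x => x) (fun c => c) (fun c => T20.get dk c) (actH d8 8)) 237568 8192 = true := by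
  decide +kernel

theorem kcm8_30 : allIn (commAt (fun x => x) (fun c => c) (fun c => T20.get dk c) (actH d8 8)) 245760 8192 = true := by
  decide +kernel

theorem kcm8_31 : allIn (commAt (fun x => x) (fun c => c) (fun c => T20.get dk c) (actH d8 8)) 253952 8192 = true := by
  decide +kernel

theorem kcm8_32 : allIn (commAt (fun x => x) (fun c => c) (fun c => T20.get dk c) (actH d8 8)) 262144 8192 = true := by
  decide +kernel

theorem kcm8_33 : allIn (commAt (fun x => x) (fun c => c) (fun c => T20.get dk c) (actH d8 8)) 270336 8192 = true := by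
  decide +kernel

theorem kcm8_34 : allIn (commAt (fun x => x) (fun c => c) (fun c => T20.get dk c) (actH d8 8)) 278528 8192 = true := by
  decide +kernel

theorem kcm8_35 : allIn (commAt (fun x => x) (fun c => c) (fun c => T20.get dk c) (actH d8 8)) 286720 8192 = true := by
  decide +kernel

theorem kcm8_36 : allIn (commAt (fun x => x) (fun c => c) (fun c => T20.get dk c) (actH d8 8)) 294912 8192 = true := by
  decide +kernel

theorem kcm8_37 : allIn (commAt (fun x => x) (fun c => c) (fun c => T20.get dk c) (actH d8 8)) 303104 3832 = true := by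
  decide +kernel

theorem kcm8 : ∀ c < 306936, (commAt (fun x => x) (fun c => c) (fun c => T20.get dk c) (actH d8 8)) c = true := fun c hc =>
  (allIn_glue kcm8_0 (allIn_glue kcm8_1 (allIn_glue kcm8_2 (allIn_glue kcm8_3 (allIn_glue kcm8_4 (allIn_glue kcm8_5 (allIn_glue kcm8_6 (allIn_glue kcm8_7 (allIn_glue kcm8_8 (allIn_glue kcm8_9 (allIn_glue kcm8_10 (allIn_glue kcm8_11 (allIn_glue kcm8_12 (allIn_glue kcm8_13 (allIn_glue kcm8_14 (allIn_glue kcm8_15 (allIn_glue kcm8_16 (allIn_glue kcm8_17 (allIn_glue kcm8_18 (allIn_glue kcm8_19 (allIn_glue kcm8_20 (allIn_glue kcm8_21 (allIn_glue kcm8_22 (allIn_glue kcm8_23 (allIn_glue kcm8_24 (allIn_glue kcm8_25 (allIn_glue kcm8_26 (allIn_glue kcm8_27 (allIn_glue kcm8_28 (allIn_glue kcm8_29 (allIn_glue kcm8_30 (allIn_glue kcm8_31 (allIn_glue kcm8_32 (allIn_glue kcm8_33 (allIn_glue kcm8_34 (allIn_glue kcm8_35 (allIn_glue kcm8_36 (allIn_spec kcm8_37)))))))))))))))))))))))))))))))))))))) c (Nat.zero_le c) hc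

end

end Cfsg.Agent.Fi24Pres
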