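import Cfsg.Agent.Lib.Fi24Pres.ActLemmas
import Cfsg.Agent.Lib.Fi24Pres.Data.Dk
import Cfsg.Agent.Lib.Fi24Pres.Data.D9

/-! k commutes with a generator. -/

set_option autoImplicit false
set_option maxRecDepth 100000
set_option Elab.async false

namespace Cfsg.Agent.Fi24Pres

noncomputable section

theorem kcm9_0 : allIn (commAt (fun x => x) (fun c => c) (fun c => T20.get dk c) (actH d9 9)) 0 8192 = true := by
  decide +kernel

theorem kcm9_1 : allIn (commAt (fun x => x) (fun c => c) (fun c => T20.get dk c) (actH d9 9)) 8192 8192 = true := by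
  decide +kernel

theorem kcm9_2 : allIn (commAt (fun x => x) (fun c => c) (fun c => T20.get dk c) (actH d9 9)) 16384 8192 = true := by
  decide +kernel

theorem kcm9_3 : allIn (commAt (fun x => x) (fun c => c) (fun c => T20.get dk c) (actH d9 9)) 24576 8192 = true := by
  decide +kernel

theorem kcm9_4 : allIn (commAt (fun x => x) (fun c => c) (fun c => T20.get dk c) (actH d9 9)) 32768 8192 = true := by
  decide +kernel

theorem kcm9_5 : allIn (commAt (fun x => x) (fun c => c) (fun c => T20.get dk c) (actH d9 9)) 40960 8192 = true := by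
  decide +kernel

theorem kcm9_6 : allIn (commAt (fun x => x) (fun c => c) (fun c => T20.get dk c) (actH d9 9)) 49152 8192 = true := by
  decide +kernel

theorem kcm9_7 : allIn (commAt (fun x => x) (fun c => c) (fun c => T20.get dk c) (actH d9 9)) 57344 8192 = true := by
  decide +kernel

theorem kcm9_8 : allIn (commAt (fun x => x) (fun c => c) (fun c => T20.get dk c) (actH d9 9)) 65536 8192 = true := by
  decide +kernel

theorem kcm9_9 : allIn (commAt (fun x => x) (fun c => c) (fun c => T20.get dk c) (actH d9 9)) 73728 8192 = true := by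
  decide +kernel

theorem kcm9_10 : allIn (commAt (fun x => x) (fun c => c) (fun c => T20.get dk c) (actH d9 9)) 81920 8192 = true := by
  decide +kernel

theorem kcm9_11 : allIn (commAt (fun x => x) (fun c => c) (fun c => T20.get dk c) (actH d9 9)) 90112 8192 = true := by
  decide +kernel

theorem kcm9_12 : allIn (commAt (fun x => x) (fun c => c) (fun c => T20.get dk c) (actH d9 9)) 98304 8192 = true := by
  decide +kernel

theorem kcm9_13 : allIn (commAt (fun x => x) (fun c => c) (fun c => T20.get dk c) (actH d9 9)) 106496 8192 = true := by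
  decide +kernel

theorem kcm9_14 : allIn (commAt (fun x => x) (fun c => c) (fun c => T20.get dk c) (actH d9 9)) 114688 8192 = true := by
  decide +kernel

theorem kcm9_15 : allIn (commAt (fun x => x) (fun c => c) (fun c => T20.get dk c) (actH d9 9)) 122880 8192 = true := by
  decide +kernel

theorem kcm9_16 : allIn (commAt (fun x => x) (fun c => c) (fun c => T20.get dk c) (actH d9 9)) 131072 8192 = true := by
  decide +kernel

theorem kcm9_17 : allIn (commAt (fun x => x) (fun c => c) (fun c => T20.get dk c) (actH d9 9)) 139264 8192 = true := by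
  decide +kernel

theorem kcm9_18 : allIn (commAt (fun x => x) (fun c => c) (fun c => T20.get dk c) (actH d9 9)) 147456 8192 = true := by
  decide +kernel

theorem kcm9_19 : allIn (commAt (fun x => x) (fun c => c) (fun c => T20.get dk c) (actH d9 9)) 155648 8192 = true := by
  decide +kernel

theorem kcm9_20 : allIn (commAt (fun x => x) (fun c => c) (fun c => T20.get dk c) (actH d9 9)) 163840 8192 = true := by
  decide +kernel

theorem kcm9_21 : allIn (commAt (fun x => x) (fun c => c) (fun c => T20.get dk c) (actH d9 9)) 172032 8192 = true := by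
  decide +kernel

theorem kcm9_22 : allIn (commAt (fun x => x) (fun c => c) (fun c => T20.get dk c) (actH d9 9)) 180224 8192 = true := by
  decide +kernel

theorem kcm9_23 : allIn (commAt (fun x => x) (fun c => c) (fun c => T20.get dk c) (actH d9 9)) 188416 8192 = true := by
  decide +kernel

theorem kcm9_24 : allIn (commAt (fun x => x) (fun c => c) (fun c => T20.get dk c) (actH d9 9)) 196608 8192 = true := by
  decide +kernel

theorem kcm9_25 : allIn (commAt (fun x => x) (fun c => c) (fun c => T20.get dk c) (actH d9 9)) 204800 8192 = true := by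
  decide +kernel

theorem kcm9_26 : allIn (commAt (fun x => x) (fun c => c) (fun c => T20.get dk c) (actH d9 9)) 212992 8192 = true := by
  decide +kernel

theorem kcm9_27 : allIn (commAt (fun x => x) (fun c => c) (fun c => T20.get dk c) (actH d9 9)) 221184 8192 = true := by
  decide +kernel

theorem kcm9_28 : allIn (commAt (fun x => x) (fun c => c) (fun c => T20.get dk c) (actH d9 9)) 229376 8192 = true := by
  decide +kernel

theorem kcm9_29 : allIn (commAt (fun x => x) (fun c => c) (fun c => T20.get dk c) (actH d9 9)) 237568 8192 = true := by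
  decide +kernel

theorem kcm9_30 : allIn (commAt (fun x => x) (fun c => c) (fun c => T20.get dk c) (actH d9 9)) 245760 8192 = true := by
  decide +kernel

theorem kcm9_31 : allIn (commAt (fun x => x) (fun c => c) (fun c => T20.get dk c) (actH d9 9)) 253952 8192 = true := by
  decide +kernel

theorem kcm9_32 : allIn (commAt (fun x => x) (fun c => c) (fun c => T20.get dk c) (actH d9 9)) 262144 8192 = true := by
  decide +kernel

theorem kcm9_33 : allIn (commAt (fun x => x) (fun c => c) (fun c => T20.get dk c) (actH d9 9)) 270336 8192 = true := by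
  decide +kernel

theorem kcm9_34 : allIn (commAt (fun x => x) (fun c => c) (fun c => T20.get dk c) (actH d9 9)) 278528 8192 = true := by
  decide +kernel

theorem kcm9_35 : allIn (commAt (fun x => x) (fun c => c) (fun c => T20.get dk c) (actH d9 9)) 286720 8192 = true := by
  decide +kernel

theorem kcm9_36 : allIn (commAt (fun x => x) (fun c => c) (fun c => T20.get dk c) (actH d9 9)) 294912 8192 = true := by
  decide +kernel

theorem kcm9_37 : allIn (commAt (fun x => x) (fun c => c) (fun c => T20.get dk c) (actH d9 9)) 303104 3832 = true := by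
  decide +kernel

theorem kcm9 : ∀ c < 306936, (commAt (fun x => x) (fun c => c) (fun c => T20.get dk c) (actH d9 9)) c = true := fun c hc =>
  (allIn_glue kcm9_0 (allIn_glue kcm9_1 (allIn_glue kcm9_2 (allIn_glue kcm9_3 (allIn_glue kcm9_4 (allIn_glue kcm9_5 (allIn_glue kcm9_6 (allIn_glue kcm9_7 (allIn_glue kcm9_8 (allIn_glue kcm9_9 (allIn_glue kcm9_10 (allIn_glue kcm9_11 (allIn_glue kcm9_12 (allIn_glue kcm9_13 (allIn_glue kcm9_14 (allIn_glue kcm9_15 (allIn_glue kcm9_16 (allIn_glue kcm9_17 (allIn_glue kcm9_18 (allIn_glue kcm9_19 (allIn_glue kcm9_20 (allIn_glue kcm9_21 (allIn_glue kcm9_22 (allIn_glue kcm9_23 (allIn_glue kcm9_24 (allIn_glue kcm9_25 (allIn_glue kcm9_26 (allIn_glue kcm9_27 (allIn_glue kcm9_28 (allIn_glue kcm9_29 (allIn_glue kcm9_30 (allIn_glue kcm9_31 (allIn_glue kcm9_32 (allIn_glue kcm9_33 (allIn_glue kcm9_34 (allIn_glue kcm9_35 (allIn_glue kcm9_36 (allIn_spec kcm9_37)))))))))))))))))))))))))))))))))))))) c (Nat.zero_le c) hc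

end

end Cfsg.Agent.Fi24Pres
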