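import Cfsg.Agent.Lib.Fi24Pres.ActLemmas
import Cfsg.Agent.Lib.Fi24Pres.Data.Qz
import Cfsg.Agent.Lib.Fi24Pres.Data.Dk
import Cfsg.Agent.Lib.Fi24Pres.Data.D0
import Cfsg.Agent.Lib.Fi24Pres.Data.D1
import Cfsg.Agent.Lib.Fi24Pres.Data.D2
import Cfsg.Agent.Lib.Fi24Pres.Data.D3
import Cfsg.Agent.Lib.Fi24Pres.Data.D4
import Cfsg.Agent.Lib.Fi24Pres.Data.D5
import Cfsg.Agent.Lib.Fi24Pres.Data.D6
import Cfsg.Agent.Lib.Fi24Pres.Data.D7
import Cfsg.Agent.Lib.Fi24Pres.Data.D8
import Cfsg.Agent.Lib.Fi24Pres.Data.D9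

/-! The word of length fourteen: blocks 15 to 29. -/

set_option autoImplicit false
set_option maxRecDepth 100000
set_option Elab.async false

namespace Cfsg.Agent.Fi24Pres

noncomputable section

theorem qz_def_15 : allIn (fun c => Nat.beq (T20.get qz c) (comp [actH d3 3, actH d2 2, actH d1 1, actH d0 0, (fun c => T20.get dk c), actL, actH d3 3, actH d4 4, actH d5 5, actH d6 6, actH d9 9, actH d3 3, actH d7 7, actH d8 8] c)) 61440 4096 = true := by
  decide +kernel

theorem qz_def_16 : allIn (fun c => Nat.beq (T20.get qz c) (comp [actH d3 3, actH d2 2, actH d1 1, actH d0 0, (fun c => T20.get dk c), actL, actH d3 3, actH d4 4, actH d5 5, actH d6 6, actH d9 9, actH d3 3, actH d7 7, actH d8 8] c)) 65536 4096 = true := by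
  decide +kernel

theorem qz_def_17 : allIn (fun c => Nat.beq (T20.get qz c) (comp [actH d3 3, actH d2 2, actH d1 1, actH d0 0, (fun c => T20.get dk c), actL, actH d3 3, actH d4 4, actH d5 5, actH d6 6, actH d9 9, actH d3 3, actH d7 7, actH d8 8] c)) 69632 4096 = true := by
  decide +kernel

theorem qz_def_18 : allIn (fun c => Nat.beq (T20.get qz c) (comp [actH d3 3, actH d2 2, actH d1 1, actH d0 0, (fun c => T20.get dk c), actL, actH d3 3, actH d4 4, actH d5 5, actH d6 6, actH d9 9, actH d3 3, actH d7 7, actH d8 8] c)) 73728 4096 = true := by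
  decide +kernel

theorem qz_def_19 : allIn (fun c => Nat.beq (T20.get qz c) (comp [actH d3 3, actH d2 2, actH d1 1, actH d0 0, (fun c => T20.get dk c), actL, actH d3 3, actH d4 4, actH d5 5, actH d6 6, actH d9 9, actH d3 3, actH d7 7, actH d8 8] c)) 77824 4096 = true := by
  decide +kernel

theorem qz_def_20 : allIn (fun c => Nat.beq (T20.get qz c) (comp [actH d3 3, actH d2 2, actH d1 1, actH d0 0, (fun c => T20.get dk c), actL, actH d3 3, actH d4 4, actH d5 5, actH d6 6, actH d9 9, actH d3 3, actH d7 7, actH d8 8] c)) 81920 4096 = true := by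
  decide +kernel

theorem qz_def_21 : allIn (fun c => Nat.beq (T20.get qz c) (comp [actH d3 3, actH d2 2, actH d1 1, actH d0 0, (fun c => T20.get dk c), actL, actH d3 3, actH d4 4, actH d5 5, actH d6 6, actH d9 9, actH d3 3, actH d7 7, actH d8 8] c)) 86016 4096 = true := by
  decide +kernel

theorem qz_def_22 : allIn (fun c => Nat.beq (T20.get qz c) (comp [actH d3 3, actH d2 2, actH d1 1, actH d0 0, (fun c => T20.get dk c), actL, actH d3 3, actH d4 4, actH d5 5, actH d6 6, actH d9 9, actH d3 3, actH d7 7, actH d8 8] c)) 90112 4096 = true := by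
  decide +kernel

theorem qz_def_23 : allIn (fun c => Nat.beq (T20.get qz c) (comp [actH d3 3, actH d2 2, actH d1 1, actH d0 0, (fun c => T20.get dk c), actL, actH d3 3, actH d4 4, actH d5 5, actH d6 6, actH d9 9, actH d3 3, actH d7 7, actH d8 8] c)) 94208 4096 = true := by
  decide +kernel

theorem qz_def_24 : allIn (fun c => Nat.beq (T20.get qz c) (comp [actH d3 3, actH d2 2, actH d1 1, actH d0 0, (fun c => T20.get dk c), actL, actH d3 3, actH d4 4, actH d5 5, actH d6 6, actH d9 9, actH d3 3, actH d7 7, actH d8 8] c)) 98304 4096 = true := by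
  decide +kernel

theorem qz_def_25 : allIn (fun c => Nat.beq (T20.get qz c) (comp [actH d3 3, actH d2 2, actH d1 1, actH d0 0, (fun c => T20.get dk c), actL, actH d3 3, actH d4 4, actH d5 5, actH d6 6, actH d9 9, actH d3 3, actH d7 7, actH d8 8] c)) 102400 4096 = true := by
  decide +kernel

theorem qz_def_26 : allIn (fun c => Nat.beq (T20.get qz c) (comp [actH d3 3, actH d2 2, actH d1 1, actH d0 0, (fun c => T20.get dk c), actL, actH d3 3, actH d4 4, actH d5 5, actH d6 6, actH d9 9, actH d3 3, actH d7 7, actH d8 8] c)) 106496 4096 = true := by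
  decide +kernel

theorem qz_def_27 : allIn (fun c => Nat.beq (T20.get qz c) (comp [actH d3 3, actH d2 2, actH d1 1, actH d0 0, (fun c => T20.get dk c), actL, actH d3 3, actH d4 4, actH d5 5, actH d6 6, actH d9 9, actH d3 3, actH d7 7, actH d8 8] c)) 110592 4096 = true := by
  decide +kernel

theorem qz_def_28 : allIn (fun c => Nat.beq (T20.get qz c) (comp [actH d3 3, actH d2 2, actH d1 1, actH d0 0, (fun c => T20.get dk c), actL, actH d3 3, actH d4 4, actH d5 5, actH d6 6, actH d9 9, actH d3 3, actH d7 7, actH d8 8] c)) 114688 4096 = true := by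
  decide +kernel

theorem qz_def_29 : allIn (fun c => Nat.beq (T20.get qz c) (comp [actH d3 3, actH d2 2, actH d1 1, actH d0 0, (fun c => T20.get dk c), actL, actH d3 3, actH d4 4, actH d5 5, actH d6 6, actH d9 9, actH d3 3, actH d7 7, actH d8 8] c)) 118784 4096 = true := by
  decide +kernel

end

end Cfsg.Agent.Fi24Pres
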