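import Cfsg.Agent.Lib.Fi24Pres.ActLemmas
import Cfsg.Agent.Lib.Fi24Pres.Data.Qz
import Cfsg.Agent.Lib.Fi24Pres.Data.Dk
import Cfsg.Agent.Lib.Fi24Pres.Data.D0
import Cfsg.Agent.Lib.Fi24Pres.Data.D1
import Cfsg.Agent.Lib.Fi24Pres.Data.D2
import Cfsg.Agent.Lib.Fi24Pres.Data.D3
import Cfsg.Agent.Lib.Fi24Pres.Data.D4
import Cfsg.Agent.Lib.Fi24Pres.Data.D5
import Cfsg.Agent.Lib.Fi24Pres.Data.D6
import Cfsg.Agent.Lib.Fi24Pres.Data.D7
import Cfsg.Agent.Lib.Fi24Pres.Data.D8
import Cfsg.Agent.Lib.Fi24Pres.Data.D9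

/-! The word of length fourteen: blocks 30 to 44. -/

set_option autoImplicit false
set_option maxRecDepth 100000
set_option Elab.async false

namespace Cfsg.Agent.Fi24Pres

noncomputable section

theorem qz_def_30 : allIn (fun c => Nat.beq (T20.get qz c) (comp [actH d3 3, actH d2 2, actH d1 1, actH d0 0, (fun c => T20.get dk c), actL, actH d3 3, actH d4 4, actH d5 5, actH d6 6, actH d9 9, actH d3 3, actH d7 7, actH d8 8] c)) 122880 4096 = true := by
  decide +kernel

theorem qz_def_31 : allIn (fun c => Nat.beq (T20.get qz c) (comp [actH d3 3, actH d2 2, actH d1 1, actH d0 0, (fun c => T20.get dk c), actL, actH d3 3, actH d4 4, actH d5 5, actH d6 6, actH d9 9, actH d3 3, actH d7 7, actH d8 8] c)) 126976 4096 = true := by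
  decide +kernel

theorem qz_def_32 : allIn (fun c => Nat.beq (T20.get qz c) (comp [actH d3 3, actH d2 2, actH d1 1, actH d0 0, (fun c => T20.get dk c), actL, actH d3 3, actH d4 4, actH d5 5, actH d6 6, actH d9 9, actH d3 3, actH d7 7, actH d8 8] c)) 131072 4096 = true := by
  decide +kernel

theorem qz_def_33 : allIn (fun c => Nat.beq (T20.get qz c) (comp [actH d3 3, actH d2 2, actH d1 1, actH d0 0, (fun c => T20.get dk c), actL, actH d3 3, actH d4 4, actH d5 5, actH d6 6, actH d9 9, actH d3 3, actH d7 7, actH d8 8] c)) 135168 4096 = true := by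
  decide +kernel

theorem qz_def_34 : allIn (fun c => Nat.beq (T20.get qz c) (comp [actH d3 3, actH d2 2, actH d1 1, actH d0 0, (fun c => T20.get dk c), actL, actH d3 3, actH d4 4, actH d5 5, actH d6 6, actH d9 9, actH d3 3, actH d7 7, actH d8 8] c)) 139264 4096 = true := by
  decide +kernel

theorem qz_def_35 : allIn (fun c => Nat.beq (T20.get qz c) (comp [actH d3 3, actH d2 2, actH d1 1, actH d0 0, (fun c => T20.get dk c), actL, actH d3 3, actH d4 4, actH d5 5, actH d6 6, actH d9 9, actH d3 3, actH d7 7, actH d8 8] c)) 143360 4096 = true := by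
  decide +kernel

theorem qz_def_36 : allIn (fun c => Nat.beq (T20.get qz c) (comp [actH d3 3, actH d2 2, actH d1 1, actH d0 0, (fun c => T20.get dk c), actL, actH d3 3, actH d4 4, actH d5 5, actH d6 6, actH d9 9, actH d3 3, actH d7 7, actH d8 8] c)) 147456 4096 = true := by
  decide +kernel

theorem qz_def_37 : allIn (fun c => Nat.beq (T20.get qz c) (comp [actH d3 3, actH d2 2, actH d1 1, actH d0 0, (fun c => T20.get dk c), actL, actH d3 3, actH d4 4, actH d5 5, actH d6 6, actH d9 9, actH d3 3, actH d7 7, actH d8 8] c)) 151552 4096 = true := by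
  decide +kernel

theorem qz_def_38 : allIn (fun c => Nat.beq (T20.get qz c) (comp [actH d3 3, actH d2 2, actH d1 1, actH d0 0, (fun c => T20.get dk c), actL, actH d3 3, actH d4 4, actH d5 5, actH d6 6, actH d9 9, actH d3 3, actH d7 7, actH d8 8] c)) 155648 4096 = true := by
  decide +kernel

theorem qz_def_39 : allIn (fun c => Nat.beq (T20.get qz c) (comp [actH d3 3, actH d2 2, actH d1 1, actH d0 0, (fun c => T20.get dk c), actL, actH d3 3, actH d4 4, actH d5 5, actH d6 6, actH d9 9, actH d3 3, actH d7 7, actH d8 8] c)) 159744 4096 = true := by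
  decide +kernel

theorem qz_def_40 : allIn (fun c => Nat.beq (T20.get qz c) (comp [actH d3 3, actH d2 2, actH d1 1, actH d0 0, (fun c => T20.get dk c), actL, actH d3 3, actH d4 4, actH d5 5, actH d6 6, actH d9 9, actH d3 3, actH d7 7, actH d8 8] c)) 163840 4096 = true := by
  decide +kernel

theorem qz_def_41 : allIn (fun c => Nat.beq (T20.get qz c) (comp [actH d3 3, actH d2 2, actH d1 1, actH d0 0, (fun c => T20.get dk c), actL, actH d3 3, actH d4 4, actH d5 5, actH d6 6, actH d9 9, actH d3 3, actH d7 7, actH d8 8] c)) 167936 4096 = true := by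
  decide +kernel

theorem qz_def_42 : allIn (fun c => Nat.beq (T20.get qz c) (comp [actH d3 3, actH d2 2, actH d1 1, actH d0 0, (fun c => T20.get dk c), actL, actH d3 3, actH d4 4, actH d5 5, actH d6 6, actH d9 9, actH d3 3, actH d7 7, actH d8 8] c)) 172032 4096 = true := by
  decide +kernel

theorem qz_def_43 : allIn (fun c => Nat.beq (T20.get qz c) (comp [actH d3 3, actH d2 2, actH d1 1, actH d0 0, (fun c => T20.get dk c), actL, actH d3 3, actH d4 4, actH d5 5, actH d6 6, actH d9 9, actH d3 3, actH d7 7, actH d8 8] c)) 176128 4096 = true := by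
  decide +kernel

theorem qz_def_44 : allIn (fun c => Nat.beq (T20.get qz c) (comp [actH d3 3, actH d2 2, actH d1 1, actH d0 0, (fun c => T20.get dk c), actL, actH d3 3, actH d4 4, actH d5 5, actH d6 6, actH d9 9, actH d3 3, actH d7 7, actH d8 8] c)) 180224 4096 = true := by
  decide +kernel

end

end Cfsg.Agent.Fi24Pres
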