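import Cfsg.Agent.Lib.Fi24Pres.ActLemmas
import Cfsg.Agent.Lib.Fi24Pres.Data.Qz
import Cfsg.Agent.Lib.Fi24Pres.Data.Dk
import Cfsg.Agent.Lib.Fi24Pres.Data.D0
import Cfsg.Agent.Lib.Fi24Pres.Data.D1
import Cfsg.Agent.Lib.Fi24Pres.Data.D2
import Cfsg.Agent.Lib.Fi24Pres.Data.D3
import Cfsg.Agent.Lib.Fi24Pres.Data.D4
import Cfsg.Agent.Lib.Fi24Pres.Data.D5
import Cfsg.Agent.Lib.Fi24Pres.Data.D6
import Cfsg.Agent.Lib.Fi24Pres.Data.D7
import Cfsg.Agent.Lib.Fi24Pres.Data.D8
import Cfsg.Agent.Lib.Fi24Pres.Data.D9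

/-! The word of length fourteen: blocks 45 to 59. -/

set_option autoImplicit false
set_option maxRecDepth 100000
set_option Elab.async false

namespace Cfsg.Agent.Fi24Pres

noncomputable section

theorem qz_def_45 : allIn (fun c => Nat.beq (T20.get qz c) (comp [actH d3 3, actH d2 2, actH d1 1, actH d0 0, (fun c => T20.get dk c), actL, actH d3 3, actH d4 4, actH d5 5, actH d6 6, actH d9 9, actH d3 3, actH d7 7, actH d8 8] c)) 184320 4096 = true := by
  decide +kernel

theorem qz_def_46 : allIn (fun c => Nat.beq (T20.get qz c) (comp [actH d3 3, actH d2 2, actH d1 1, actH d0 0, (fun c => T20.get dk c), actL, actH d3 3, actH d4 4, actH d5 5, actH d6 6, actH d9 9, actH d3 3, actH d7 7, actH d8 8] c)) 188416 4096 = true := by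
  decide +kernel

theorem qz_def_47 : allIn (fun c => Nat.beq (T20.get qz c) (comp [actH d3 3, actH d2 2, actH d1 1, actH d0 0, (fun c => T20.get dk c), actL, actH d3 3, actH d4 4, actH d5 5, actH d6 6, actH d9 9, actH d3 3, actH d7 7, actH d8 8] c)) 192512 4096 = true := by
  decide +kernel

theorem qz_def_48 : allIn (fun c => Nat.beq (T20.get qz c) (comp [actH d3 3, actH d2 2, actH d1 1, actH d0 0, (fun c => T20.get dk c), actL, actH d3 3, actH d4 4, actH d5 5, actH d6 6, actH d9 9, actH d3 3, actH d7 7, actH d8 8] c)) 196608 4096 = true := by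
  decide +kernel

theorem qz_def_49 : allIn (fun c => Nat.beq (T20.get qz c) (comp [actH d3 3, actH d2 2, actH d1 1, actH d0 0, (fun c => T20.get dk c), actL, actH d3 3, actH d4 4, actH d5 5, actH d6 6, actH d9 9, actH d3 3, actH d7 7, actH d8 8] c)) 200704 4096 = true := by
  decide +kernel

theorem qz_def_50 : allIn (fun c => Nat.beq (T20.get qz c) (comp [actH d3 3, actH d2 2, actH d1 1, actH d0 0, (fun c => T20.get dk c), actL, actH d3 3, actH d4 4, actH d5 5, actH d6 6, actH d9 9, actH d3 3, actH d7 7, actH d8 8] c)) 204800 4096 = true := by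
  decide +kernel

theorem qz_def_51 : allIn (fun c => Nat.beq (T20.get qz c) (comp [actH d3 3, actH d2 2, actH d1 1, actH d0 0, (fun c => T20.get dk c), actL, actH d3 3, actH d4 4, actH d5 5, actH d6 6, actH d9 9, actH d3 3, actH d7 7, actH d8 8] c)) 208896 4096 = true := by
  decide +kernel

theorem qz_def_52 : allIn (fun c => Nat.beq (T20.get qz c) (comp [actH d3 3, actH d2 2, actH d1 1, actH d0 0, (fun c => T20.get dk c), actL, actH d3 3, actH d4 4, actH d5 5, actH d6 6, actH d9 9, actH d3 3, actH d7 7, actH d8 8] c)) 212992 4096 = true := by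
  decide +kernel

theorem qz_def_53 : allIn (fun c => Nat.beq (T20.get qz c) (comp [actH d3 3, actH d2 2, actH d1 1, actH d0 0, (fun c => T20.get dk c), actL, actH d3 3, actH d4 4, actH d5 5, actH d6 6, actH d9 9, actH d3 3, actH d7 7, actH d8 8] c)) 217088 4096 = true := by
  decide +kernel

theorem qz_def_54 : allIn (fun c => Nat.beq (T20.get qz c) (comp [actH d3 3, actH d2 2, actH d1 1, actH d0 0, (fun c => T20.get dk c), actL, actH d3 3, actH d4 4, actH d5 5, actH d6 6, actH d9 9, actH d3 3, actH d7 7, actH d8 8] c)) 221184 4096 = true := by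
  decide +kernel

theorem qz_def_55 : allIn (fun c => Nat.beq (T20.get qz c) (comp [actH d3 3, actH d2 2, actH d1 1, actH d0 0, (fun c => T20.get dk c), actL, actH d3 3, actH d4 4, actH d5 5, actH d6 6, actH d9 9, actH d3 3, actH d7 7, actH d8 8] c)) 225280 4096 = true := by
  decide +kernel

theorem qz_def_56 : allIn (fun c => Nat.beq (T20.get qz c) (comp [actH d3 3, actH d2 2, actH d1 1, actH d0 0, (fun c => T20.get dk c), actL, actH d3 3, actH d4 4, actH d5 5, actH d6 6, actH d9 9, actH d3 3, actH d7 7, actH d8 8] c)) 229376 4096 = true := by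
  decide +kernel

theorem qz_def_57 : allIn (fun c => Nat.beq (T20.get qz c) (comp [actH d3 3, actH d2 2, actH d1 1, actH d0 0, (fun c => T20.get dk c), actL, actH d3 3, actH d4 4, actH d5 5, actH d6 6, actH d9 9, actH d3 3, actH d7 7, actH d8 8] c)) 233472 4096 = true := by
  decide +kernel

theorem qz_def_58 : allIn (fun c => Nat.beq (T20.get qz c) (comp [actH d3 3, actH d2 2, actH d1 1, actH d0 0, (fun c => T20.get dk c), actL, actH d3 3, actH d4 4, actH d5 5, actH d6 6, actH d9 9, actH d3 3, actH d7 7, actH d8 8] c)) 237568 4096 = true := by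
  decide +kernel

theorem qz_def_59 : allIn (fun c => Nat.beq (T20.get qz c) (comp [actH d3 3, actH d2 2, actH d1 1, actH d0 0, (fun c => T20.get dk c), actL, actH d3 3, actH d4 4, actH d5 5, actH d6 6, actH d9 9, actH d3 3, actH d7 7, actH d8 8] c)) 241664 4096 = true := by
  decide +kernel

end

end Cfsg.Agent.Fi24Pres
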