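import Cfsg.Agent.Lib.Fi24Pres.Check.KZdefA
import Cfsg.Agent.Lib.Fi24Pres.Check.KZdefB
import Cfsg.Agent.Lib.Fi24Pres.Check.KZdefC
import Cfsg.Agent.Lib.Fi24Pres.Check.KZdefD
import Cfsg.Agent.Lib.Fi24Pres.Check.KZdefE

/-! The word of length fourteen. -/

set_option autoImplicit false
set_option maxRecDepth 100000
set_option Elab.async false

namespace Cfsg.Agent.Fi24Pres

noncomputable section

theorem qz_def : ∀ c < 306936, (fun c => Nat.beq (T20.get qz c) (comp [actH d3 3, actH d2 2, actH d1 1, actH d0 0, (fun c => T20.get dk c), actL, actH d3 3, actH d4 4, actH d5 5, actH d6 6, actH d9 9, actH d3 3, actH d7 7, actH d8 8] c)) c = true := fun c hc =>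
  (allIn_glue qz_def_0 (allIn_glue qz_def_1 (allIn_glue qz_def_2 (allIn_glue qz_def_3 (allIn_glue qz_def_4 (allIn_glue qz_def_5 (allIn_glue qz_def_6 (allIn_glue qz_def_7 (allIn_glue qz_def_8 (allIn_glue qz_def_9 (allIn_glue qz_def_10 (allIn_glue qz_def_11 (allIn_glue qz_def_12 (allIn_glue qz_def_13 (allIn_glue qz_def_14 (allIn_glue qz_def_15 (allIn_glue qz_def_16 (allIn_glue qz_def_17 (allIn_glue qz_def_18 (allIn_glue qz_def_19 (allIn_glue qz_def_20 (allIn_glue qz_def_21 (allIn_glue qz_def_22 (allIn_glue qz_def_23 (allIn_glue qz_def_24 (allIn_glue qz_def_25 (allIn_glue qz_def_26 (allIn_glue qz_def_27 (allIn_glue qz_def_28 (allIn_glue qz_def_29 (allIn_glue qz_def_30 (allIn_glue qz_def_31 (allIn_glue qz_def_32 (allIn_glue qz_def_33 (allIn_glue qz_def_34 (allIn_glue qz_def_35 (allIn_glue qz_def_36 (allIn_glue qz_def_37 (allIn_glue qz_def_38 (allIn_glue qz_def_39 (allIn_glue qz_def_40 (allIn_glue qz_def_41 (allIn_glue qz_def_42 (allIn_glue qz_def_43 (allIn_glue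 qz_def_44 (allIn_glue qz_def_45 (allIn_glue qz_def_46 (allIn_glue qz_def_47 (allIn_glue qz_def_48 (allIn_glue qz_def_49 (allIn_glue qz_def_50 (allIn_glue qz_def_51 (allIn_glue qz_def_52 (allIn_glue qz_def_53 (allIn_glue qz_def_54 (allIn_glue qz_def_55 (allIn_glue qz_def_56 (allIn_glue qz_def_57 (allIn_glue qz_def_58 (allIn_glue qz_def_59 (allIn_glue qz_def_60 (allIn_glue qz_def_61 (allIn_glue qz_def_62 (allIn_glue qz_def_63 (allIn_glue qz_def_64 (allIn_glue qz_def_65 (allIn_glue qz_def_66 (allIn_glue qz_def_67 (allIn_glue qz_def_68 (allIn_glue qz_def_69 (allIn_glue qz_def_70 (allIn_glue qz_def_71 (allIn_glue qz_def_72 (allIn_glue qz_def_73 (allIn_spec qz_def_74))))))))))))))))))))))))))))))))))))))))))))))))))))))))))))))))))))))))))) c (Nat.zero_le c) hc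

end

end Cfsg.Agent.Fi24Pres
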