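import Cfsg.Agent.Lib.Fi24Pres.ActLemmas
import Cfsg.Agent.Lib.Fi24Pres.Data.Qz
import Cfsg.Agent.Lib.Fi24Pres.Data.Dk
import Cfsg.Agent.Lib.Fi24Pres.Data.D0
import Cfsg.Agent.Lib.Fi24Pres.Data.D1
import Cfsg.Agent.Lib.Fi24Pres.Data.D2
import Cfsg.Agent.Lib.Fi24Pres.Data.D3
import Cfsg.Agent.Lib.Fi24Pres.Data.D4
import Cfsg.Agent.Lib.Fi24Pres.Data.D5
import Cfsg.Agent.Lib.Fi24Pres.Data.D6
import Cfsg.Agent.Lib.Fi24Pres.Data.D7
import Cfsg.Agent.Lib.Fi24Pres.Data.D8
import Cfsg.Agent.Lib.Fi24Pres.Data.D9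

/-! The word of length fourteen: blocks 0 to 14. -/

set_option autoImplicit false
set_option maxRecDepth 100000
set_option Elab.async false

namespace Cfsg.Agent.Fi24Pres

noncomputable section

theorem qz_def_0 : allIn (fun c => Nat.beq (T20.get qz c) (comp [actH d3 3, actH d2 2, actH d1 1, actH d0 0, (fun c => T20.get dk c), actL, actH d3 3, actH d4 4, actH d5 5, actH d6 6, actH d9 9, actH d3 3, actH d7 7, actH d8 8] c)) 0 4096 = true := by
  decide +kernel

theorem qz_def_1 : allIn (fun c => Nat.beq (T20.get qz c) (comp [actH d3 3, actH d2 2, actH d1 1, actH d0 0, (fun c => T20.get dk c), actL, actH d3 3, actH d4 4, actH d5 5, actH d6 6, actH d9 9, actH d3 3, actH d7 7, actH d8 8] c)) 4096 4096 = true := by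
  decide +kernel

theorem qz_def_2 : allIn (fun c => Nat.beq (T20.get qz c) (comp [actH d3 3, actH d2 2, actH d1 1, actH d0 0, (fun c => T20.get dk c), actL, actH d3 3, actH d4 4, actH d5 5, actH d6 6, actH d9 9, actH d3 3, actH d7 7, actH d8 8] c)) 8192 4096 = true := by
  decide +kernel

theorem qz_def_3 : allIn (fun c => Nat.beq (T20.get qz c) (comp [actH d3 3, actH d2 2, actH d1 1, actH d0 0, (fun c => T20.get dk c), actL, actH d3 3, actH d4 4, actH d5 5, actH d6 6, actH d9 9, actH d3 3, actH d7 7, actH d8 8] c)) 12288 4096 = true := by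
  decide +kernel

theorem qz_def_4 : allIn (fun c => Nat.beq (T20.get qz c) (comp [actH d3 3, actH d2 2, actH d1 1, actH d0 0, (fun c => T20.get dk c), actL, actH d3 3, actH d4 4, actH d5 5, actH d6 6, actH d9 9, actH d3 3, actH d7 7, actH d8 8] c)) 16384 4096 = true := by
  decide +kernel

theorem qz_def_5 : allIn (fun c => Nat.beq (T20.get qz c) (comp [actH d3 3, actH d2 2, actH d1 1, actH d0 0, (fun c => T20.get dk c), actL, actH d3 3, actH d4 4, actH d5 5, actH d6 6, actH d9 9, actH d3 3, actH d7 7, actH d8 8] c)) 20480 4096 = true := by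
  decide +kernel

theorem qz_def_6 : allIn (fun c => Nat.beq (T20.get qz c) (comp [actH d3 3, actH d2 2, actH d1 1, actH d0 0, (fun c => T20.get dk c), actL, actH d3 3, actH d4 4, actH d5 5, actH d6 6, actH d9 9, actH d3 3, actH d7 7, actH d8 8] c)) 24576 4096 = true := by
  decide +kernel

theorem qz_def_7 : allIn (fun c => Nat.beq (T20.get qz c) (comp [actH d3 3, actH d2 2, actH d1 1, actH d0 0, (fun c => T20.get dk c), actL, actH d3 3, actH d4 4, actH d5 5, actH d6 6, actH d9 9, actH d3 3, actH d7 7, actH d8 8] c)) 28672 4096 = true := by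
  decide +kernel

theorem qz_def_8 : allIn (fun c => Nat.beq (T20.get qz c) (comp [actH d3 3, actH d2 2, actH d1 1, actH d0 0, (fun c => T20.get dk c), actL, actH d3 3, actH d4 4, actH d5 5, actH d6 6, actH d9 9, actH d3 3, actH d7 7, actH d8 8] c)) 32768 4096 = true := by
  decide +kernel

theorem qz_def_9 : allIn (fun c => Nat.beq (T20.get qz c) (comp [actH d3 3, actH d2 2, actH d1 1, actH d0 0, (fun c => T20.get dk c), actL, actH d3 3, actH d4 4, actH d5 5, actH d6 6, actH d9 9, actH d3 3, actH d7 7, actH d8 8] c)) 36864 4096 = true := by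
  decide +kernel

theorem qz_def_10 : allIn (fun c => Nat.beq (T20.get qz c) (comp [actH d3 3, actH d2 2, actH d1 1, actH d0 0, (fun c => T20.get dk c), actL, actH d3 3, actH d4 4, actH d5 5, actH d6 6, actH d9 9, actH d3 3, actH d7 7, actH d8 8] c)) 40960 4096 = true := by
  decide +kernel

theorem qz_def_11 : allIn (fun c => Nat.beq (T20.get qz c) (comp [actH d3 3, actH d2 2, actH d1 1, actH d0 0, (fun c => T20.get dk c), actL, actH d3 3, actH d4 4, actH d5 5, actH d6 6, actH d9 9, actH d3 3, actH d7 7, actH d8 8] c)) 45056 4096 = true := by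
  decide +kernel

theorem qz_def_12 : allIn (fun c => Nat.beq (T20.get qz c) (comp [actH d3 3, actH d2 2, actH d1 1, actH d0 0, (fun c => T20.get dk c), actL, actH d3 3, actH d4 4, actH d5 5, actH d6 6, actH d9 9, actH d3 3, actH d7 7, actH d8 8] c)) 49152 4096 = true := by
  decide +kernel

theorem qz_def_13 : allIn (fun c => Nat.beq (T20.get qz c) (comp [actH d3 3, actH d2 2, actH d1 1, actH d0 0, (fun c => T20.get dk c), actL, actH d3 3, actH d4 4, actH d5 5, actH d6 6, actH d9 9, actH d3 3, actH d7 7, actH d8 8] c)) 53248 4096 = true := by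
  decide +kernel

theorem qz_def_14 : allIn (fun c => Nat.beq (T20.get qz c) (comp [actH d3 3, actH d2 2, actH d1 1, actH d0 0, (fun c => T20.get dk c), actL, actH d3 3, actH d4 4, actH d5 5, actH d6 6, actH d9 9, actH d3 3, actH d7 7, actH d8 8] c)) 57344 4096 = true := by
  decide +kernel

end

end Cfsg.Agent.Fi24Pres
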