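import Cfsg.Agent.Lib.Fi24Pres.ActLemmas
import Cfsg.Agent.Lib.Fi24Pres.Data.Qe
import Cfsg.Agent.Lib.Fi24Pres.Data.D0
import Cfsg.Agent.Lib.Fi24Pres.Data.D1
import Cfsg.Agent.Lib.Fi24Pres.Data.D2
import Cfsg.Agent.Lib.Fi24Pres.Data.D3
import Cfsg.Agent.Lib.Fi24Pres.Data.D4
import Cfsg.Agent.Lib.Fi24Pres.Data.D5
import Cfsg.Agent.Lib.Fi24Pres.Data.D7

/-! A long relation on the double cover. -/

set_option autoImplicit false
set_option maxRecDepth 100000
set_option Elab.async false

namespace Cfsg.Agent.Fi24Pres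

noncomputable section

theorem qe_def_0 : allIn (fun c => Nat.beq (act2 qe (lift2 c)) (comp [act2 d0, act2 d1, act2 d2, act2 d3, act2 d4, act2 d5, act2 d7] (lift2 c))) 0 8192 = true := by
  decide +kernel

theorem qe_def_1 : allIn (fun c => Nat.beq (act2 qe (lift2 c)) (comp [act2 d0, act2 d1, act2 d2, act2 d3, act2 d4, act2 d5, act2 d7] (lift2 c))) 8192 8192 = true := by
  decide +kernel

theorem qe_def_2 : allIn (fun c => Nat.beq (act2 qe (lift2 c)) (comp [act2 d0, act2 d1, act2 d2, act2 d3, act2 d4, act2 d5, act2 d7] (lift2 c))) 16384 8192 = true := by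
  decide +kernel

theorem qe_def_3 : allIn (fun c => Nat.beq (act2 qe (lift2 c)) (comp [act2 d0, act2 d1, act2 d2, act2 d3, act2 d4, act2 d5, act2 d7] (lift2 c))) 24576 8192 = true := by
  decide +kernel

theorem qe_def_4 : allIn (fun c => Nat.beq (act2 qe (lift2 c)) (comp [act2 d0, act2 d1, act2 d2, act2 d3, act2 d4, act2 d5, act2 d7] (lift2 c))) 32768 8192 = true := by
  decide +kernel

theorem qe_def_5 : allIn (fun c => Nat.beq (act2 qe (lift2 c)) (comp [act2 d0, act2 d1, act2 d2, act2 d3, act2 d4, act2 d5, act2 d7] (lift2 c))) 40960 8192 = true := by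
  decide +kernel

theorem qe_def_6 : allIn (fun c => Nat.beq (act2 qe (lift2 c)) (comp [act2 d0, act2 d1, act2 d2, act2 d3, act2 d4, act2 d5, act2 d7] (lift2 c))) 49152 8192 = true := by
  decide +kernel

theorem qe_def_7 : allIn (fun c => Nat.beq (act2 qe (lift2 c)) (comp [act2 d0, act2 d1, act2 d2, act2 d3, act2 d4, act2 d5, act2 d7] (lift2 c))) 57344 8192 = true := by
  decide +kernel

theorem qe_def_8 : allIn (fun c => Nat.beq (act2 qe (lift2 c)) (comp [act2 d0, act2 d1, act2 d2, act2 d3, act2 d4, act2 d5, act2 d7] (lift2 c))) 65536 8192 = true := by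
  decide +kernel

theorem qe_def_9 : allIn (fun c => Nat.beq (act2 qe (lift2 c)) (comp [act2 d0, act2 d1, act2 d2, act2 d3, act2 d4, act2 d5, act2 d7] (lift2 c))) 73728 8192 = true := by
  decide +kernel

theorem qe_def_10 : allIn (fun c => Nat.beq (act2 qe (lift2 c)) (comp [act2 d0, act2 d1, act2 d2, act2 d3, act2 d4, act2 d5, act2 d7] (lift2 c))) 81920 8192 = true := by
  decide +kernel

theorem qe_def_11 : allIn (fun c => Nat.beq (act2 qe (lift2 c)) (comp [act2 d0, act2 d1, act2 d2, act2 d3, act2 d4, act2 d5, act2 d7] (lift2 c))) 90112 8192 = true := by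
  decide +kernel

theorem qe_def_12 : allIn (fun c => Nat.beq (act2 qe (lift2 c)) (comp [act2 d0, act2 d1, act2 d2, act2 d3, act2 d4, act2 d5, act2 d7] (lift2 c))) 98304 8192 = true := by
  decide +kernel

theorem qe_def_13 : allIn (fun c => Nat.beq (act2 qe (lift2 c)) (comp [act2 d0, act2 d1, act2 d2, act2 d3, act2 d4, act2 d5, act2 d7] (lift2 c))) 106496 8192 = true := by
  decide +kernel

theorem qe_def_14 : allIn (fun c => Nat.beq (act2 qe (lift2 c)) (comp [act2 d0, act2 d1, act2 d2, act2 d3, act2 d4, act2 d5, act2 d7] (lift2 c))) 114688 8192 = true := by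
  decide +kernel

theorem qe_def_15 : allIn (fun c => Nat.beq (act2 qe (lift2 c)) (comp [act2 d0, act2 d1, act2 d2, act2 d3, act2 d4, act2 d5, act2 d7] (lift2 c))) 122880 8192 = true := by
  decide +kernel

theorem qe_def_16 : allIn (fun c => Nat.beq (act2 qe (lift2 c)) (comp [act2 d0, act2 d1, act2 d2, act2 d3, act2 d4, act2 d5, act2 d7] (lift2 c))) 131072 6560 = true := by
  decide +kernel

theorem qe_def : ∀ c < 137632, (fun c => Nat.beq (act2 qe (lift2 c)) (comp [act2 d0, act2 d1, act2 d2, act2 d3, act2 d4, act2 d5, act2 d7] (lift2 c))) c = true := fun c hc =>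
  (allIn_glue qe_def_0 (allIn_glue qe_def_1 (allIn_glue qe_def_2 (allIn_glue qe_def_3 (allIn_glue qe_def_4 (allIn_glue qe_def_5 (allIn_glue qe_def_6 (allIn_glue qe_def_7 (allIn_glue qe_def_8 (allIn_glue qe_def_9 (allIn_glue qe_def_10 (allIn_glue qe_def_11 (allIn_glue qe_def_12 (allIn_glue qe_def_13 (allIn_glue qe_def_14 (allIn_glue qe_def_15 (allIn_spec qe_def_16))))))))))))))))) c (Nat.zero_le c) hc

theorem qe_pow_0 : allIn (powAt key2 lift2 (act2 qe) flip1 9) 0 8192 = true := by
  decide +kernel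

theorem qe_pow_1 : allIn (powAt key2 lift2 (act2 qe) flip1 9) 8192 8192 = true := by
  decide +kernel

theorem qe_pow_2 : allIn (powAt key2 lift2 (act2 qe) flip1 9) 16384 8192 = true := by
  decide +kernel

theorem qe_pow_3 : allIn (powAt key2 lift2 (act2 qe) flip1 9) 24576 8192 = true := by
  decide +kernel

theorem qe_pow_4 : allIn (powAt key2 lift2 (act2 qe) flip1 9) 32768 8192 = true := by
  decide +kernel

theorem qe_pow_5 : allIn (powAt key2 lift2 (act2 qe) flip1 9) 40960 8192 = true := by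
  decide +kernel

theorem qe_pow_6 : allIn (powAt key2 lift2 (act2 qe) flip1 9) 49152 8192 = true := by
  decide +kernel

theorem qe_pow_7 : allIn (powAt key2 lift2 (act2 qe) flip1 9) 57344 8192 = true := by
  decide +kernel

theorem qe_pow_8 : allIn (powAt key2 lift2 (act2 qe) flip1 9) 65536 8192 = true := by
  decide +kernel

theorem qe_pow_9 : allIn (powAt key2 lift2 (act2 qe) flip1 9) 73728 8192 = true := by
  decide +kernel

theorem qe_pow_10 : allIn (powAt key2 lift2 (act2 qe) flip1 9) 81920 8192 = true := by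
  decide +kernel

theorem qe_pow_11 : allIn (powAt key2 lift2 (act2 qe) flip1 9) 90112 8192 = true := by
  decide +kernel

theorem qe_pow_12 : allIn (powAt key2 lift2 (act2 qe) flip1 9) 98304 8192 = true := by
  decide +kernel

theorem qe_pow_13 : allIn (powAt key2 lift2 (act2 qe) flip1 9) 106496 8192 = true := by
  decide +kernel

theorem qe_pow_14 : allIn (powAt key2 lift2 (act2 qe) flip1 9) 114688 8192 = true := by
  decide +kernel

theorem qe_pow_15 : allIn (powAt key2 lift2 (act2 qe) flip1 9) 122880 8192 = true := by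
  decide +kernel

theorem qe_pow_16 : allIn (powAt key2 lift2 (act2 qe) flip1 9) 131072 6560 = true := by
  decide +kernel

theorem qe_pow : ∀ c < 137632, (powAt key2 lift2 (act2 qe) flip1 9) c = true := fun c hc =>
  (allIn_glue qe_pow_0 (allIn_glue qe_pow_1 (allIn_glue qe_pow_2 (allIn_glue qe_pow_3 (allIn_glue qe_pow_4 (allIn_glue qe_pow_5 (allIn_glue qe_pow_6 (allIn_glue qe_pow_7 (allIn_glue qe_pow_8 (allIn_glue qe_pow_9 (allIn_glue qe_pow_10 (allIn_glue qe_pow_11 (allIn_glue qe_pow_12 (allIn_glue qe_pow_13 (allIn_glue qe_pow_14 (allIn_glue qe_pow_15 (allIn_spec qe_pow_16))))))))))))))))) c (Nat.zero_le c) hc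

end

end Cfsg.Agent.Fi24Pres
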